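import Mathlib
import Groth.Prelude.Def_W4c2seshadriposJets
import Groth.Agent.Lib.Helper1.SerreAmple1
import Groth.Agent.Lib.Helper1.CurvePt1
import Groth.Agent.Lib.Helper1.Euler4
import Groth.Agent.Lib.Helper1.QcExt
import Groth.Agent.Lib.Helper1.CurveDual2
import Groth.Agent.Lib.Helper4.TwExact

/-!
# Cohomology of `m_x^a ⊗ L^{⊗ m}` in degrees `> 1` (helper2)
-/

set_option autoImplicit false
universe u
open CategoryTheory CategoryTheory.Limits AlgebraicGeometry

namespace Groth.Agent.Helper2.JetsVanish

open Groth.Agent.Helper1 Groth.Agent.Helper1.Euler Groth.Agent.Helper1.TwForm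
open Groth.Agent.Lib.Helper4

theorem dim_le_zero_of_subset_singleton {T : Type*} [TopologicalSpace T] {S : Set T} {x : T}
    (h : S ⊆ {x}) : topologicalKrullDim S ≤ 0 := by
  have hs : Subsingleton S := ⟨fun a b => Subtype.ext ((h a.2).trans (h b.2).symm)⟩
  have : Subsingleton (TopologicalSpace.IrreducibleCloseds S) := ⟨fun A B => by
    apply SetLike.coe_injective
    ext y
    obtain ⟨a, ha⟩ := A.isIrreducible'.nonempty
    obtain ⟨b, hb⟩ := B.isIrreducible'.nonempty
    constructor
    · intro _
      rw [Subsingleton.elim y b]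
      exact hb
    · intro _
      rw [Subsingleton.elim y a]
      exact ha⟩
  exact Order.krullDim_nonpos_of_subsingleton

variable {X : Scheme.{u}}

open CategoryTheory.Abelian in
/-- vanishing of the cohomology of the subobject in a short exact sequence (as helper1's
`AffStrat.subsingleton_HH_X₁`, repeated here to keep the import closure small) -/
theorem subsingleton_HH_X₁ {S : ShortComplex X.Modules} (hS : S.ShortExact) (n : ℕ)
    (h3 : Subsingleton (Coh.HH X S.X₃ n)) (h2 : Subsingleton (Coh.HH X S.X₂ (n + 1))) :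
    Subsingleton (Coh.HH X S.X₁ (n + 1)) := by
  have hSab := QcExt.Sab_shortExact hS
  refine subsingleton_of_forall_eq 0 fun x => ?_
  obtain ⟨y, hy⟩ := Ext.covariant_sequence_exact₁ _ hSab x
    (Subsingleton.elim (h := h2) _ _) rfl
  have hy0 : y = 0 := Subsingleton.elim (h := h3) y 0
  rw [← hy, hy0, Ext.zero_comp]
  rfl

theorem support_pointIdeal_pow_subset (x : X) (hx : IsClosed ({x} : Set X)) (a : ℕ) :
    (((W4c2seshadripos.pointIdeal x hx) ^ a).support : Set X) ⊆ {x} := by
  cases a with
  | zero =>
    rw [pow_zero]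
    intro y hy
    have h1 : (1 : X.IdealSheafData) = ⊤ := rfl
    rw [h1, Scheme.IdealSheafData.support_top] at hy
    exact absurd hy (by simp)
  | succ a =>
    rw [Scheme.IdealSheafData.support_pow_succ]
    unfold W4c2seshadripos.pointIdeal
    rw [Scheme.IdealSheafData.coe_support_vanishingIdeal]
    exact le_refl _

/-- the twisted ideal sequence -/
theorem subsingleton_HH_ideal_twist (k : Type u) [Field k] [X.Over (Spec (CommRingCat.of k))]
    [IsProper (X ↘ (Spec (CommRingCat.of k)))] (x : X) (hx : IsClosed ({x} : Set X))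
    {L : X.Modules} (hL : PicF.IsInvertible L) (m a n : ℕ) (hn : 0 < n)
    (h2 : Subsingleton (Coh.HH X (CohB1.tensorMod (Coh.structureModule X) (CohB1.tensorPow L m))
      (n + 1))) :
    Subsingleton (Coh.HH X (CohB1.tensorMod
      (ClSub.idealMod ((W4c2seshadripos.pointIdeal x hx) ^ a)) (CohB1.tensorPow L m)) (n + 1)) := by
  haveI : IsNoetherian X := isNoetherian_of_proper k X
  set Z := (W4c2seshadripos.pointIdeal x hx) ^ a with hZ
  have hLm := isInvertible_tensorPow hL m
  have hS := TwExact.shortExact_map (TwExact.locGen_of_isInvertible _ hLm)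
    (CurveDual.shortExact_S Z)
  have hcoh : Coh.IsCoh (CohB1.tensorMod (ClSub.quotMod Z) (CohB1.tensorPow L m)) :=
    isCoh_tensor _ _ (CurveDual.isCoh_quotMod Z) (InvQc.isCoh_of_isInvertible _ hLm)
  have hdim : topologicalKrullDim ↥(CohB1.support
      (CohB1.tensorMod (ClSub.quotMod Z) (CohB1.tensorPow L m))) ≤ 0 :=
    dim_le_zero_of_subset_singleton
      ((CurvePt.support_tensor_quotMod_subset Z hLm).trans (support_pointIdeal_pow_subset x hx a))
  have h3 := subsingleton_HH_of_dim_le_zero _ hcoh hdim n hn
  exact subsingleton_HH_X₁ hS n h3 h2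

end Groth.Agent.Helper2.JetsVanish
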