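import Mathlib
import Groth.Agent.Lib.Helper2.Jets.Vanish
import Groth.Agent.Lib.Helper1.AffExt
import Groth.Agent.Lib.Helper1.H1Ext
import Groth.Agent.Lib.Lead.TilT6
import Groth.Agent.Lib.Helper2.ShStab.ParPoly

/-!
# The inclusion `I' ⊆ I` of ideal modules and its cokernel (helper2)
-/

set_option autoImplicit false
universe u
open CategoryTheory CategoryTheory.Limits AlgebraicGeometry

namespace Groth.Agent.Helper2.IdealLE

open Groth.Agent.Helper1 Groth.Agent.Helper1.Euler Groth.Agent.Helper1.TwForm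
open Groth.Agent.Helper1.QcCech Groth.Agent.Helper1.Dv
open Groth.Agent.Lib.Helper4

variable {X : Scheme.{u}} {I' I : X.IdealSheafData}

theorem idealModι_comp_toSubscheme (h : I' ≤ I) :
    ClSub.idealModι I' ≫ ClSub.toSubscheme I = 0 := by
  apply AffExt.hom_ext_affine
  intro U hU y
  change (ClSub.toSubscheme I).app U ((ClSub.idealModι I').app U y) = 0
  rw [IdealModL.toSubscheme_app]
  have h1 := IdealModL.toSubscheme_ι I' U y
  have h2 : (ClSub.idealModι I').app U y ∈ I'.ideal ⟨U, hU⟩ := by
    rw [← Scheme.IdealSheafData.ker_subschemeι_app]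
    exact h1
  have h3 : (ClSub.idealModι I').app U y ∈ I.ideal ⟨U, hU⟩ := h ⟨U, hU⟩ h2
  rw [← Scheme.IdealSheafData.ker_subschemeι_app] at h3
  exact h3

/-- the inclusion of ideal modules -/
noncomputable def idealModLE (h : I' ≤ I) : ClSub.idealMod I' ⟶ ClSub.idealMod I :=
  kernel.lift _ (ClSub.idealModι I') (idealModι_comp_toSubscheme h)

theorem idealModLE_ι (h : I' ≤ I) : idealModLE h ≫ ClSub.idealModι I = ClSub.idealModι I' :=
  kernel.lift_ι _ _ _

instance (h : I' ≤ I) : Mono (idealModLE h) := by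
  have : Mono (idealModLE h ≫ ClSub.idealModι I) := by
    rw [idealModLE_ι]
    infer_instance
  exact mono_of_mono (idealModLE h) (ClSub.idealModι I)

/-- the quotient `I / I'` is supported in `V(I')` -/
theorem support_cokernel_idealModLE_subset (h : I' ≤ I) :
    CohB1.support (cokernel (idealModLE h)) ⊆ (I'.support : Set X) := by
  intro x hx
  by_contra hxI
  refine notMem_support_cokernel (idealModLE h) x ?_ hx
  intro a
  obtain ⟨V, hxV, s, rfl⟩ := TopCat.Presheaf.exists_germ_eq (ClSub.idealMod I).presheaf a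
  let U : X.Opens := V ⊓ ⟨(I'.support : Set X)ᶜ, I'.support.isClosed.isOpen_compl⟩
  have hxU : x ∈ U := ⟨hxV, hxI⟩
  have hUV : U ≤ V := inf_le_left
  have hbot : I'.subschemeι ⁻¹ᵁ U = ⊥ := by
    ext z
    simp only [TopologicalSpace.Opens.coe_bot, Set.mem_empty_iff_false, iff_false]
    intro hz
    have h1 : I'.subschemeι z ∈ (I'.support : Set X) := by
      rw [← Scheme.IdealSheafData.range_subschemeι]
      exact ⟨z, rfl⟩
    exact hz.2 h1
  have hsub : Subsingleton Γ(I'.subscheme, I'.subschemeι ⁻¹ᵁ U) := by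
    rw [hbot]
    infer_instance
  obtain ⟨y, hy⟩ := IdealModL.exists_of_app_eq_zero I' U
    ((ClSub.idealModι I).app U (res (ClSub.idealMod I) hUV s)) (Subsingleton.elim _ _)
  refine ⟨(ClSub.idealMod I').presheaf.germ U x hxU y, ?_⟩
  rw [stalkSh_map_germ]
  have hys : (idealModLE h).app U y = res (ClSub.idealMod I) hUV s := by
    apply IdealModL.ι_injective I U
    rw [← hy]
    change ((idealModLE h) ≫ ClSub.idealModι I).app U y = _
    rw [idealModLE_ι]
  rw [hys]
  exact TopCat.Presheaf.germ_res_apply (ClSub.idealMod I).presheaf (homOfLE hUV) x hxU s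

/-- the short exact sequence `0 → I' → I → I / I' → 0` -/
noncomputable def sc (h : I' ≤ I) : ShortComplex X.Modules :=
  ShortComplex.mk (idealModLE h) (cokernel.π _) (cokernel.condition _)

theorem sc_shortExact (h : I' ≤ I) : (sc h).ShortExact := by
  have : Mono (sc h).f := inferInstanceAs (Mono (idealModLE h))
  have : Epi (sc h).g := inferInstanceAs (Epi (cokernel.π (idealModLE h)))
  exact { exact := ShortComplex.exact_cokernel _ }

/-- S15255 -/
theorem nontrivial_H1 (k : Type u) [Field k] [X.Over (Spec (CommRingCat.of k))]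
    [IsProper (X ↘ (Spec (CommRingCat.of k)))] (x : X) (hx : IsClosed ({x} : Set X))
    {L : X.Modules} (hL : PicF.IsInvertible L) (a m : ℕ)
    (h : Nontrivial (Coh.HH X (CohB1.tensorMod
      (ClSub.idealMod ((W4c2seshadripos.pointIdeal x hx) ^ a)) (CohB1.tensorPow L m)) 1)) :
    Nontrivial (Coh.HH X (CohB1.tensorMod
      (ClSub.idealMod ((W4c2seshadripos.pointIdeal x hx) ^ (a + 1))) (CohB1.tensorPow L m)) 1) := by
  haveI : IsNoetherian X := isNoetherian_of_proper k X
  by_contra hcon
  rw [not_nontrivial_iff_subsingleton] at hcon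
  have hle : (W4c2seshadripos.pointIdeal x hx) ^ (a + 1) ≤ (W4c2seshadripos.pointIdeal x hx) ^ a := by
    calc (W4c2seshadripos.pointIdeal x hx) ^ (a + 1)
        = (W4c2seshadripos.pointIdeal x hx) ^ a * (W4c2seshadripos.pointIdeal x hx) := pow_succ _ _
      _ ≤ (W4c2seshadripos.pointIdeal x hx) ^ a * ⊤ :=
          mul_le_mul_of_nonneg_left le_top (show (0 : X.IdealSheafData) ≤ _ from bot_le)
      _ = (W4c2seshadripos.pointIdeal x hx) ^ a := Scheme.IdealSheafData.mul_top _
  have hLm := isInvertible_tensorPow hL m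
  have hS := TwExact.shortExact_map (TwExact.locGen_of_isInvertible _ hLm) (sc_shortExact hle)
  have hC : Coh.IsCoh (cokernel (idealModLE hle)) :=
    ParPoly.isCoh_cokernel _ (CurveDual.isCoh_idealMod _) (CurveDual.isCoh_idealMod _)
  have hLc := InvQc.isCoh_of_isInvertible _ hLm
  have hcoh : Coh.IsCoh (CohB1.tensorMod (cokernel (idealModLE hle)) (CohB1.tensorPow L m)) :=
    isCoh_tensor _ _ hC hLc
  haveI := hC.1
  haveI := hLc.1
  have hdim : topologicalKrullDim ↥(CohB1.support
      (CohB1.tensorMod (cokernel (idealModLE hle)) (CohB1.tensorPow L m))) ≤ 0 := by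
    apply JetsVanish.dim_le_zero_of_subset_singleton (x := x)
    rw [Groth.Agent.Lead.TilT.support_tensorMod _ _ hC.2 hLc.2]
    exact (Set.inter_subset_left).trans ((support_cokernel_idealModLE_subset hle).trans
      (JetsVanish.support_pointIdeal_pow_subset x hx (a + 1)))
  have h3 := subsingleton_HH_of_dim_le_zero _ hcoh hdim 1 Nat.one_pos
  have := H1Ext.subsingleton_HH_mid hS 1 hcon h3
  exact not_subsingleton_iff_nontrivial.2 h this

end Groth.Agent.Helper2.IdealLE
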